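import Groth.Agent.Euler.Basic
import Groth.Agent.PBlow.Chart
import Groth.Agent.SymOmega.Sections
import Mathlib.RingTheory.Kaehler.Polynomial
import Groth.Agent.QCoh.LocFree

/-!
# The Euler sequence of a projective bundle
-/

set_option autoImplicit false
set_option backward.isDefEq.respectTransparency false
set_option backward.isDefEq.respectTransparency.types false
set_option linter.style.haveILetI false

universe u

open CategoryTheory CategoryTheory.Limits AlgebraicGeometry TopologicalSpace Opposite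
open scoped TensorProduct

noncomputable section

namespace Groth.Agent.Euler

open Groth.Agent.AModX Groth.Agent.H23

variable {S P : Scheme.{u}} {p : P ⟶ S} {F : S.Modules} {O1 : P.Modules}
  (u : (Scheme.Modules.pullback p).obj F ⟶ O1) {Ω : P.Modules} (d : OmegaSh.Der p Ω)

theorem bijective_tmS_frame {M N : P.Modules} (hM : Coh.IsQCoh M) (hN : Coh.IsQCoh N) {W : P.Opens}
    (hW : IsAffineOpen W) {e : Γ(N, W)} (he : InvX.IsFrame e) :
    Function.Bijective fun ω : Γ(M, W) => QCoh.tmS M N ω e := by
  let φ : Γ(P, W) ≃ₗ[Γ(P, W)] Γ(N, W) := LinearEquiv.ofBijective (LinearMap.toSpanSingleton Γ(P, W) Γ(N, W) e) (by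
    have h := he W le_rfl
    simp only [res_self] at h
    exact h)
  let G := ((TensorProduct.rid Γ(P, W) Γ(M, W)).symm.trans (TensorProduct.congr (LinearEquiv.refl _ _) φ))
  have h : (fun ω : Γ(M, W) => QCoh.tmS M N ω e) = QCoh.tmLin M N W ∘ G := funext fun ω => by
    show _ = QCoh.tmLin M N W (TensorProduct.congr (LinearEquiv.refl _ _) φ
      ((TensorProduct.rid Γ(P, W) Γ(M, W)).symm ω))
    rw [TensorProduct.rid_symm_apply, TensorProduct.congr_tmul, QCoh.tmLin_tmul]
    refine congrArg (QCoh.tmS M N ω) ?_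
    exact (one_smul _ _).symm
  rw [h]
  exact (QCoh.bijective_tmLin hM hN hW).comp G.bijective

/-- The differentials of polynomial coordinates are a basis. -/
theorem kaehler_bijective {A B : Type u} [CommRing A] [CommRing B] [Algebra A B] {m : ℕ} (x : Fin m → B)
    (hx : Function.Bijective (MvPolynomial.aeval (R := A) x)) :
    Function.Bijective fun c : Fin m → B => ∑ k, c k • KaehlerDifferential.D A B (x k) := by
  classical
  let e := AlgEquiv.ofBijective (MvPolynomial.aeval (R := A) x) hx
  let L : (Fin m → B) →ₗ[B] Ω[B⁄A] := Fintype.linearCombination B fun k => KaehlerDifferential.D A B (x k)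
  let δ : Derivation A B (Fin m → B) :=
    Derivation.mk'
      { toFun := fun b k => e (MvPolynomial.pderiv k (e.symm b))
        map_add' := fun b b' => funext fun k => by simp
        map_smul' := fun r b => funext fun k => by simp }
      fun b b' => funext fun k => by simp
  let M := δ.liftKaehlerDifferential
  have hδ : ∀ k, δ (x k) = Pi.single k 1 := fun k => by
    have hk : e.symm (x k) = MvPolynomial.X k := e.symm_apply_eq.2 (MvPolynomial.aeval_X x k).symm
    funext l
    show e (MvPolynomial.pderiv l (e.symm (x k))) = _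
    rw [hk, MvPolynomial.pderiv_X]
    by_cases hlk : l = k
    · subst hlk; simp
    · simp [hlk]
  have h1 : ∀ c, M (L c) = c := fun c => by
    rw [Fintype.linearCombination_apply, map_sum]
    simp only [map_smul, M, Derivation.liftKaehlerDifferential_comp_D, hδ]
    funext l
    simp [Finset.sum_apply, Pi.single_apply]
  refine ⟨fun c c' hcc => ?_, ?_⟩
  · have hL : L c = L c' := by simpa [L, Fintype.linearCombination_apply] using hcc
    rw [← h1 c, ← h1 c', hL]
  have hrange : ∀ z, z ∈ LinearMap.range L := fun z => by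
    have hz : z ∈ Submodule.span B (Set.range (KaehlerDifferential.D A B)) := by
      rw [KaehlerDifferential.span_range_derivation]; trivial
    refine (Submodule.span_le.2 ?_) hz
    rintro _ ⟨b, rfl⟩
    obtain ⟨p, rfl⟩ := hx.2 b
    show KaehlerDifferential.D A B _ ∈ LinearMap.range L
    induction p using MvPolynomial.induction_on with
    | C r => rw [MvPolynomial.aeval_C, Derivation.map_algebraMap]; exact zero_mem _
    | add p q hp hq => rw [map_add, map_add]; exact add_mem hp hq
    | mul_X p k hp =>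
      rw [map_mul, MvPolynomial.aeval_X, Derivation.leibniz]
      refine add_mem (Submodule.smul_mem _ _ ⟨Pi.single k 1, ?_⟩) (Submodule.smul_mem _ _ hp)
      rw [Fintype.linearCombination_apply_single, one_smul]
  intro z
  obtain ⟨c, hc⟩ := hrange z
  exact ⟨c, by simpa [L, Fintype.linearCombination_apply] using hc⟩

variable {U : S.Opens} {m : ℕ} (b : Fin (m + 1) → Γ(F, U)) (k : Fin (m + 1))

theorem d_one (W : P.Opens) : d.app W 1 = 0 := by
  have h := Synt29.OmegaStalk.app_mul Ω d W 1 1
  rw [one_mul, one_smul] at h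
  exact left_eq_add.1 h

/-- The differentials of the coordinates on a chart. -/
abbrev dr (j : Fin m) : Γ(Ω, PBlow.locus u b k) :=
  d.app (PBlow.locus u b k) (PBlow.ratio u b k (k.succAbove j))

variable (hb : Frame.IsFrame F b) (hP : KRR.IsProjBundle p F O1 u) (hU : IsAffineOpen U)
  (hd : OmegaSh.IsUniversal d)

include hb hP hU hd in
theorem isFrame_dr : Frame.IsFrame Ω (dr u d b k) := by
  obtain ⟨hV, hψ⟩ := PBlow.chart_iso u b k hb hP hU
  let V := PBlow.locus u b k
  letI := (p.appLE U V (PBlow.locus_le u b k)).hom.toAlgebra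
  obtain ⟨l, hl⟩ := SymOmega.exists_linearEquiv_D hd hV hU (PBlow.locus_le u b k)
  let x : Fin m → Γ(P, V) := fun j => PBlow.ratio u b k (k.succAbove j)
  have hbij : Function.Bijective fun c : Fin m → Γ(P, V) => ∑ j, c j • dr u d b k j := by
    refine (congrArg Function.Bijective (funext fun c => ?_)).mp
      (l.symm.bijective.comp (kaehler_bijective (A := Γ(S, U)) x hψ))
    show l.symm (∑ j, c j • KaehlerDifferential.D Γ(S, U) Γ(P, V) (x j)) = _
    rw [map_sum]
    refine Finset.sum_congr rfl fun j _ => ?_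
    rw [map_smul, ← hl, LinearEquiv.symm_apply_apply]
  let Lc : (Fin m → Γ(P, V)) ≃ₗ[Γ(P, V)] Γ(Ω, V) :=
    LinearEquiv.ofBijective (Fintype.linearCombination _ fun j => dr u d b k j)
      ((congrArg Function.Bijective (funext fun c => (Fintype.linearCombination_apply _ _ c).symm)).mp hbij)
  obtain ⟨e⟩ := QCoh.exists_free_restrict (Synt29.OmegaStalk.isQCoh_of_isUniversal hd) hV (Lc.symm.trans
    ((Finsupp.linearEquivFunOnFinite _ _ _).symm.trans (Finsupp.domLCongr Equiv.ulift.symm)))
  obtain ⟨s, hs⟩ := Frame.exists_frame e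
  refine PinchPO7.isFrame_of_span hs fun i => ?_
  obtain ⟨c, hc⟩ := hbij.2 (s i)
  exact ⟨c, Eq.trans (Finset.sum_congr rfl fun j _ => congrArg (c j • ·) (res_self _)) hc⟩

variable {W : P.Opens} (hW : W ≤ PBlow.locus u b k)

theorem sig_eq (i : Fin (m + 1)) : res O1 (hW.trans (PBlow.locus_le u b k)) (PBlow.sig u b i) =
    resR hW (PBlow.ratio u b k i) • res O1 (hW.trans (PBlow.locus_le u b k)) (PBlow.sig u b k) := by
  have h := congrArg (res O1 hW) (PBlow.ratio_smul u b k i)
  rw [res_smul, res_res, res_res] at h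
  exact h.symm

/-- The condition on coordinates to give a section of the kernel. -/
theorem sum_eq_zero_iff (c : Fin (m + 1) → Γ(P, W)) :
    u.app W (Frame.comb ((Scheme.Modules.pullback p).obj F) (pull b) W (hW.trans (PBlow.locus_le u b k)) c) = 0 ↔
      ∑ i, c i * resR hW (PBlow.ratio u b k i) = 0 := by
  rw [u_comb]
  rw [Finset.sum_congr rfl fun i _ => (congrArg (c i • ·) (sig_eq u b k hW i)).trans (mul_smul _ _ _).symm,
    ← Finset.sum_smul]
  refine ⟨fun h => ?_, fun h => by rw [h, zero_smul]⟩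
  have hf := (PBlow.isFrame_sig u b k).res hW
  refine hf.coord_unique le_rfl ?_
  rw [res_self, res_res, zero_smul]
  exact h

theorem val_eq (c : Fin (m + 1) → Γ(P, W)) (h : ∑ i, c i * resR hW (PBlow.ratio u b k i) = 0) :
    val u d b (hW.trans (PBlow.locus_le u b k)) c =
      QCoh.tmS Ω O1 (-Frame.comb Ω (dr u d b k) W hW (fun j => c (k.succAbove j)))
        (res O1 (hW.trans (PBlow.locus_le u b k)) (PBlow.sig u b k)) := by
  have hdr : ∀ i, d.app W (resR hW (PBlow.ratio u b k i)) =
      res Ω hW (d.app _ (PBlow.ratio u b k i)) := fun i =>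
    Synt29.OmegaStalk.app_res Ω d (homOfLE hW) _
  have h1 := congrArg (d.app W) h
  rw [map_sum, map_zero] at h1
  simp only [Synt29.OmegaStalk.app_mul, Finset.sum_add_distrib] at h1
  have h2 : ∑ i, c i • d.app W (resR hW (PBlow.ratio u b k i)) =
      Frame.comb Ω (dr u d b k) W hW (fun j => c (k.succAbove j)) := by
    rw [Fin.sum_univ_succAbove _ k, hdr, PBlow.ratio_self, d_one, map_zero, smul_zero, zero_add]
    exact Finset.sum_congr rfl fun j _ => congrArg (c (k.succAbove j) • ·) (hdr _)
  rw [h2] at h1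
  rw [← eq_neg_of_add_eq_zero_right h1, tmS_sum_left]
  refine Finset.sum_congr rfl fun i _ => ?_
  rw [sig_eq u b k hW i, QCoh.tmS_smul_right, QCoh.tmS_smul_left]

variable (hF : FlatMod.IsFinLocFree F)

include hb hP hU hd in
theorem hom_bijective (hWa : IsAffineOpen W) (hWl : W ≤ PBlow.locus u b k) :
    Function.Bijective ((hom u d hF).app W) := by
  let M := (Scheme.Modules.pullback p).obj F
  have hle := hWl.trans (PBlow.locus_le u b k)
  have hO : FlatMod.IsFinLocFree O1 := fun x => by
    obtain ⟨V, hV, e⟩ := hP.invertible x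
    exact ⟨V, 1, hV, e⟩
  have hσ : InvX.IsFrame (res O1 hle (PBlow.sig u b k)) := by
    have h := (PBlow.isFrame_sig u b k).res hWl
    rw [res_res] at h
    exact h
  have ht := bijective_tmS_frame (M := Ω) (N := O1) (Synt29.OmegaStalk.isQCoh_of_isUniversal hd)
    (QCoh.isQCoh_of_isFinLocFree hO) hWa hσ
  have hdrf := isFrame_dr u d b k hb hP hU hd W hWl
  constructor
  · refine (injective_iff_map_eq_zero ((hom u d hF).app W).hom).2 fun x hx => ?_
    obtain ⟨c, hc⟩ := (isFrame_pull b hb W hle).2 ((kernel.ι u).app W x)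
    have h0 := u_kernel u x
    rw [← hc, sum_eq_zero_iff u b k hWl] at h0
    have hval := hom_app u d b hle hF hb x c hc.symm
    rw [val_eq u d b k hWl c h0] at hval
    have h1 : (-Frame.comb Ω (dr u d b k) W hWl fun j => c (k.succAbove j)) = 0 := ht.1 (by
      show _ = QCoh.tmS Ω O1 0 _
      rw [tmS_zero_left]
      exact hval.symm.trans hx)
    have h2 : (fun j => c (k.succAbove j)) = 0 := hdrf.1 (by
      rw [neg_eq_zero.1 h1]
      exact (map_zero (PinchPO7.combₗ Ω (dr u d b k) W hWl)).symm)
    rw [Fin.sum_univ_succAbove _ k, PBlow.ratio_self, map_one, mul_one,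
      Finset.sum_eq_zero fun j _ => by rw [congrFun h2 j, Pi.zero_apply, zero_mul], add_zero] at h0
    have hc0 : c = 0 := funext fun i => by
      rcases Fin.eq_self_or_eq_succAbove k i with rfl | ⟨j, rfl⟩
      · exact h0
      · exact congrFun h2 j
    apply QCoh.app_injective (kernel.ι u) W
    rw [map_zero, ← hc, hc0]
    exact map_zero (PinchPO7.combₗ M (pull b) W hle)
  · intro t
    obtain ⟨ω, hω⟩ := ht.2 t
    obtain ⟨c', hc'⟩ := hdrf.2 (-ω)
    let c : Fin (m + 1) → Γ(P, W) := Fin.insertNth (α := fun _ => Γ(P, W)) k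
      (-∑ j, c' j * resR hWl (PBlow.ratio u b k (k.succAbove j))) c'
    have hk : c k = -∑ j, c' j * resR hWl (PBlow.ratio u b k (k.succAbove j)) := Fin.insertNth_apply_same ..
    have hs : ∀ j, c (k.succAbove j) = c' j := fun j => Fin.insertNth_apply_succAbove ..
    have h0 : ∑ i, c i * resR hWl (PBlow.ratio u b k i) = 0 := by
      rw [Fin.sum_univ_succAbove _ k, PBlow.ratio_self, map_one, mul_one, hk]
      simp only [hs, neg_add_cancel]
    obtain ⟨x, hx⟩ := QCoh.exists_kernel_lift u W (Frame.comb M (pull b) W hle c)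
      ((sum_eq_zero_iff u b k hWl c).2 h0)
    refine ⟨x, (hom_app u d b hle hF hb x c hx).trans ?_⟩
    rw [val_eq u d b k hWl c h0]
    simp only [hs, hc', neg_neg]
    exact hω

include hd hP hF in
theorem isIso_hom : IsIso (hom u d hF) := by
  refine QCoh.isIso_of_isBasis (hom u d hF) (B := {W : P.Opens | IsAffineOpen W ∧
    ∃ (U : S.Opens) (_ : IsAffineOpen U) (m : ℕ) (b : Fin (m + 1) → Γ(F, U)) (k : Fin (m + 1)),
      Frame.IsFrame F b ∧ W ≤ PBlow.locus u b k}) ?_ ?_
  · refine Opens.isBasis_iff_nbhd.2 fun {V z} hz => ?_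
    obtain ⟨U₀, n, b₀, hz₀, hb₀⟩ := exists_frame_at hF (p z)
    obtain ⟨U, hU, hzU, hUle⟩ := Opens.isBasis_iff_nbhd.mp S.isBasis_affineOpens hz₀
    have hb' := hb₀.res hUle
    obtain ⟨k, hk⟩ := PBlow.exists_mem_locus u _ hb' hP (p := z) hzU
    obtain ⟨m, rfl⟩ : ∃ m, n = m + 1 := Nat.exists_eq_add_of_le' (Nat.lt_of_le_of_lt (Nat.zero_le _) k.2)
    obtain ⟨W, hW, hzW, hWle⟩ := Opens.isBasis_iff_nbhd.mp P.isBasis_affineOpens
      (show z ∈ V ⊓ PBlow.locus u _ k from ⟨hz, hk⟩)
    exact ⟨W, ⟨hW, U, hU, m, _, k, hb', hWle.trans inf_le_right⟩, hzW, hWle.trans inf_le_left⟩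
  · rintro W ⟨hW, U, hU, m, b, k, hb, hle⟩
    exact hom_bijective u d b k hb hP hU hd hF hW hle

include hd hP hF in
/-- The Euler sequence. -/
theorem nonempty_iso : Nonempty (tgt Ω O1 ≅ kernel u) :=
  haveI := isIso_hom u d hP hd hF
  ⟨(asIso (hom u d hF)).symm⟩

end Groth.Agent.Euler
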