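import Groth.Agent.PBlow.PB
import Groth.Agent.PinchPO7.FrameLemmas
import Groth.Agent.Synt29.OmegaStalk
import Groth.Agent.QCoh.TensorSections
import Groth.Agent.QCoh.DevissageSum
import Groth.Prelude.Def_Omega3

/-!
# The second fundamental form of the tautological sequence of a projective bundle
-/

set_option autoImplicit false
set_option backward.isDefEq.respectTransparency false
set_option backward.isDefEq.respectTransparency.types false
set_option linter.style.haveILetI false

universe u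

open CategoryTheory CategoryTheory.Limits AlgebraicGeometry TopologicalSpace Opposite

noncomputable section

namespace Groth.Agent.Euler

open Groth.Agent.AModX Groth.Agent.H23

variable {S P : Scheme.{u}} {p : P ⟶ S} {F : S.Modules} {O1 : P.Modules}
  (u : (Scheme.Modules.pullback p).obj F ⟶ O1) {Ω : P.Modules} (d : OmegaSh.Der p Ω)

/-- The target of the second fundamental form. -/
abbrev tgt (Ω O1 : P.Modules) : P.Modules := (DCoh.tensorBi.obj Ω).obj O1

theorem tmS_zero_left {U : P.Opens} (t : Γ(O1, U)) : QCoh.tmS Ω O1 (0 : Γ(Ω, U)) t = 0 := by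
  have h := QCoh.tmS_smul_left Ω O1 (0 : Γ(P, U)) (0 : Γ(Ω, U)) t
  simpa using h

theorem tmS_zero_right {U : P.Opens} (s : Γ(Ω, U)) : QCoh.tmS Ω O1 s (0 : Γ(O1, U)) = 0 := by
  have h := QCoh.tmS_smul_right Ω O1 (0 : Γ(P, U)) s (0 : Γ(O1, U))
  simpa using h

theorem tmS_sum_left {U : P.Opens} {ι : Type*} (I : Finset ι) (s : ι → Γ(Ω, U)) (t : Γ(O1, U)) :
    QCoh.tmS Ω O1 (∑ i ∈ I, s i) t = ∑ i ∈ I, QCoh.tmS Ω O1 (s i) t :=
  map_sum (AddMonoidHom.mk' (fun s => QCoh.tmS Ω O1 s t) fun a b => QCoh.tmS_add_left Ω O1 a b t) s I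

theorem tmS_sum_right {U : P.Opens} {ι : Type*} (I : Finset ι) (s : Γ(Ω, U)) (t : ι → Γ(O1, U)) :
    QCoh.tmS Ω O1 s (∑ i ∈ I, t i) = ∑ i ∈ I, QCoh.tmS Ω O1 s (t i) :=
  map_sum (AddMonoidHom.mk' (fun t => QCoh.tmS Ω O1 s t) fun a b => QCoh.tmS_add_right Ω O1 s a b) t I

/-- Functions coming from the base have vanishing differential. -/
theorem d_appLE {U : S.Opens} {W : P.Opens} (h : W ≤ p ⁻¹ᵁ U) (a : Γ(S, U)) :
    d.app W (p.appLE U W h a) = 0 := by
  show d.app W (P.presheaf.map (homOfLE h).op (p.app U a)) = 0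
  rw [Synt29.OmegaStalk.app_res, Synt29.OmegaStalk.app_base, map_zero]

variable {U : S.Opens} {n : ℕ} (b : Fin n → Γ(F, U)) {W : P.Opens} (hW : W ≤ p ⁻¹ᵁ U)

/-- The pulled back sections. -/
abbrev pull (i : Fin n) : Γ((Scheme.Modules.pullback p).obj F, p ⁻¹ᵁ U) := InvX.pullElt p (b i)

theorem isFrame_pull (hb : Frame.IsFrame F b) : Frame.IsFrame ((Scheme.Modules.pullback p).obj F) (pull (p := p) b) :=
  PinchPO7.isFrame_unitSec hb p

theorem u_comb (c : Fin n → Γ(P, W)) :
    u.app W (Frame.comb ((Scheme.Modules.pullback p).obj F) (pull b) W hW c) =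
      ∑ i, c i • res O1 hW (PBlow.sig u b i) :=
  PinchPO7.app_comb u _ hW c

/-- The value on a combination of pulled back sections. -/
def val (c : Fin n → Γ(P, W)) : Γ(tgt Ω O1, W) :=
  ∑ i, QCoh.tmS Ω O1 (d.app W (c i)) (res O1 hW (PBlow.sig u b i))

theorem res_val (c : Fin n → Γ(P, W)) {W' : P.Opens} (h : W' ≤ W) :
    res (tgt Ω O1) h (val u d b hW c) = val u d b (h.trans hW) (fun i => resR h (c i)) := by
  unfold val
  rw [map_sum]
  refine Finset.sum_congr rfl fun i _ => ?_
  refine (QCoh.map_tmS Ω O1 (homOfLE h) _ _).trans (congrArg₂ (QCoh.tmS Ω O1) ?_ ?_)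
  · exact (Synt29.OmegaStalk.app_res Ω d (homOfLE h) (c i)).symm
  · exact res_res (M := O1) hW h _

theorem val_add (c c' : Fin n → Γ(P, W)) : val u d b hW (c + c') = val u d b hW c + val u d b hW c' := by
  simp only [val, Pi.add_apply, map_add, QCoh.tmS_add_left, Finset.sum_add_distrib]

theorem val_smul (r : Γ(P, W)) (c : Fin n → Γ(P, W))
    (h0 : u.app W (Frame.comb ((Scheme.Modules.pullback p).obj F) (pull b) W hW c) = 0) :
    val u d b hW (r • c) = r • val u d b hW c := by
  rw [u_comb] at h0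
  simp only [val, Pi.smul_apply, smul_eq_mul, Synt29.OmegaStalk.app_mul, QCoh.tmS_add_left,
    QCoh.tmS_smul_left, Finset.sum_add_distrib, Finset.smul_sum]
  have h1 : ∑ i, c i • QCoh.tmS Ω O1 (d.app W r) (res O1 hW (PBlow.sig u b i)) = 0 := by
    simp only [← QCoh.tmS_smul_right, ← tmS_sum_right, h0, tmS_zero_right]
  rw [h1, add_zero]

variable {U' : S.Opens} {n' : ℕ} (b' : Fin n' → Γ(F, U')) (hW' : W ≤ p ⁻¹ᵁ U')

/-- The value does not depend on the frame. -/
theorem indep (hb : Frame.IsFrame F b) (c : Fin n → Γ(P, W)) (c' : Fin n' → Γ(P, W))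
    (h : Frame.comb ((Scheme.Modules.pullback p).obj F) (pull b) W hW c =
      Frame.comb ((Scheme.Modules.pullback p).obj F) (pull b') W hW' c') :
    val u d b hW c = val u d b' hW' c' := by
  classical
  let M := (Scheme.Modules.pullback p).obj F
  have hW'' : W ≤ p ⁻¹ᵁ (U ⊓ U') := fun z hz => ⟨hW hz, hW' hz⟩
  choose A hA using fun j => (hb (U ⊓ U') inf_le_left).2 (res F inf_le_right (b' j))
  let a : Fin n' → Fin n → Γ(P, W) := fun j i => p.appLE (U ⊓ U') W hW'' (A j i)
  have hβ : ∀ j, res M hW' (pull b' j) = Frame.comb M (pull b) W hW (a j) := fun j => by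
    have h1 := congrArg (fun x => res M hW'' (PinchPO7.unitSec p F x)) (hA j)
    rw [PinchPO7.unitSec_comb, PinchPO7.res_comb, PinchPO7.unitSec_res] at h1
    refine Eq.trans ?_ h1.symm
    exact (res_res (M := M) _ hW'' _).symm
  have hc : c = fun i => ∑ j, c' j * a j i := (isFrame_pull b hb W hW).1 (by
    rw [h]
    show ∑ j, c' j • res M hW' (pull b' j) = PinchPO7.combₗ M (pull b) W hW _
    have : (fun i => ∑ j, c' j * a j i) = ∑ j, c' j • a j := by funext i; simp
    rw [this, map_sum]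
    refine Finset.sum_congr rfl fun j _ => ?_
    rw [map_smul, hβ j]
    rfl)
  have hσ : ∀ j, res O1 hW' (PBlow.sig u b' j) = ∑ i, a j i • res O1 hW (PBlow.sig u b i) := fun j => by
    have h1 := congrArg (u.app W) (hβ j)
    rw [app_res, u_comb] at h1
    exact h1
  subst hc
  simp only [val, map_sum, Synt29.OmegaStalk.app_mul, a, d_appLE, smul_zero, zero_add, tmS_sum_left,
    QCoh.tmS_smul_left]
  rw [Finset.sum_comm]
  refine Finset.sum_congr rfl fun j _ => ?_
  rw [hσ j, tmS_sum_right]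
  exact Finset.sum_congr rfl fun i _ => (QCoh.tmS_smul_right Ω O1 _ _ _).symm

/-- The values glued from frames. -/
def Rel (V : P.Opens) (y : Γ((Scheme.Modules.pullback p).obj F, V)) (t : Γ(tgt Ω O1, V)) : Prop :=
  ∀ (U : S.Opens) (n : ℕ) (b : Fin n → Γ(F, U)), Frame.IsFrame F b →
    ∀ (W : P.Opens) (h : W ≤ V) (hW : W ≤ p ⁻¹ᵁ U) (c : Fin n → Γ(P, W)),
      res ((Scheme.Modules.pullback p).obj F) h y = Frame.comb ((Scheme.Modules.pullback p).obj F) (pull b) W hW c →
        res (tgt Ω O1) h t = val u d b hW c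

theorem exists_frame_at (hF : FlatMod.IsFinLocFree F) (x : S) :
    ∃ (U : S.Opens) (n : ℕ) (b : Fin n → Γ(F, U)), x ∈ U ∧ Frame.IsFrame F b := by
  obtain ⟨U, n, hx, ⟨e⟩⟩ := hF x
  obtain ⟨b, hb⟩ := Frame.exists_frame e
  exact ⟨U, n, b, hx, hb⟩

variable (hF : FlatMod.IsFinLocFree F)

include hF in
theorem rel_unique {V : P.Opens} {y : Γ((Scheme.Modules.pullback p).obj F, V)} {t t' : Γ(tgt Ω O1, V)}
    (ht : Rel u d V y t) (ht' : Rel u d V y t') : t = t' := by
  refine eq_of_locally _ _ fun z hz => ?_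
  obtain ⟨U, n, b, hzU, hb⟩ := exists_frame_at hF (p z)
  obtain ⟨c, hc⟩ := (isFrame_pull b hb (V ⊓ p ⁻¹ᵁ U) inf_le_right).2 (res _ inf_le_left y)
  exact ⟨V ⊓ p ⁻¹ᵁ U, inf_le_left, ⟨hz, hzU⟩,
    (ht U n b hb _ inf_le_left inf_le_right c hc.symm).trans (ht' U n b hb _ inf_le_left inf_le_right c hc.symm).symm⟩

include hF in
theorem exists_rel {V : P.Opens} (y : Γ((Scheme.Modules.pullback p).obj F, V)) : ∃ t, Rel u d V y t := by
  choose U n b hzU hb using fun z : V => exists_frame_at hF (p z.1)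
  let W : V → P.Opens := fun z => V ⊓ p ⁻¹ᵁ U z
  choose c hc using fun z : V => (isFrame_pull (b z) (hb z) (W z) inf_le_right).2 (res _ inf_le_left y)
  obtain ⟨t, ht, -⟩ := existsUnique_glue (M := tgt Ω O1) (V := V) W (fun _ => inf_le_left)
    (fun z hz => ⟨⟨z, hz⟩, hz, hzU ⟨z, hz⟩⟩) (fun z => val u d (b z) inf_le_right (c z)) fun z z' => by
      rw [res_val, res_val]
      refine indep u d _ _ _ _ (hb z) _ _ ?_
      rw [← PinchPO7.res_comb _ (inf_le_right : W z ≤ _), ← PinchPO7.res_comb _ (inf_le_right : W z' ≤ _), hc, hc,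
        res_res, res_res]
  refine ⟨t, fun U' n' b' hb' W' h hW' c' hc' => eq_of_locally _ _ fun z hz => ?_⟩
  let z₀ : V := ⟨z, h hz⟩
  refine ⟨W' ⊓ W z₀, inf_le_left, ⟨hz, h hz, hzU z₀⟩, ?_⟩
  have h1 := congrArg (res (tgt Ω O1) (inf_le_right : W' ⊓ W z₀ ≤ W z₀)) (ht z₀)
  rw [res_res, res_val] at h1
  rw [res_res, res_val, h1]
  refine indep u d _ _ _ _ (hb z₀) _ _ ?_
  rw [← PinchPO7.res_comb _ (inf_le_right : W z₀ ≤ _), ← PinchPO7.res_comb _ hW', hc, ← hc', res_res, res_res]

theorem rel_res {V V' : P.Opens} (i : V' ≤ V) {y : Γ((Scheme.Modules.pullback p).obj F, V)}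
    {t : Γ(tgt Ω O1, V)} (ht : Rel u d V y t) : Rel u d V' (res _ i y) (res _ i t) :=
  fun U n b hb W h hW c hc => by
    rw [res_res] at hc ⊢
    exact ht U n b hb W _ hW c hc

theorem rel_add {V : P.Opens} {y y' : Γ((Scheme.Modules.pullback p).obj F, V)}
    {t t' : Γ(tgt Ω O1, V)} (ht : Rel u d V y t) (ht' : Rel u d V y' t') : Rel u d V (y + y') (t + t') :=
  fun U n b hb W h hW c hc => by
    obtain ⟨c₁, h₁⟩ := (isFrame_pull b hb W hW).2 (res _ h y)
    obtain ⟨c₂, h₂⟩ := (isFrame_pull b hb W hW).2 (res _ h y')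
    have hcc : c = c₁ + c₂ := (isFrame_pull b hb W hW).1 (by
      rw [← hc, map_add, ← h₁, ← h₂]
      exact (map_add (PinchPO7.combₗ _ (pull b) W hW) c₁ c₂).symm)
    rw [map_add, ht U n b hb W h hW c₁ h₁.symm, ht' U n b hb W h hW c₂ h₂.symm, hcc, val_add]

theorem rel_smul {V : P.Opens} (r : Γ(P, V)) {y : Γ((Scheme.Modules.pullback p).obj F, V)}
    (hy : u.app V y = 0) {t : Γ(tgt Ω O1, V)} (ht : Rel u d V y t) : Rel u d V (r • y) (r • t) :=
  fun U n b hb W h hW c hc => by
    obtain ⟨c₁, h₁⟩ := (isFrame_pull b hb W hW).2 (res _ h y)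
    have hcc : c = resR h r • c₁ := (isFrame_pull b hb W hW).1 (by
      rw [← hc, res_smul, ← h₁]
      exact (map_smul (PinchPO7.combₗ _ (pull b) W hW) _ c₁).symm)
    rw [res_smul, ht U n b hb W h hW c₁ h₁.symm, hcc, val_smul]
    rw [h₁, app_res, hy, map_zero]

theorem u_kernel {V : P.Opens} (x : Γ(kernel u, V)) : u.app V ((kernel.ι u).app V x) = 0 :=
  congrArg (fun φ : kernel u ⟶ O1 => φ.app V x) (kernel.condition u)

/-- The second fundamental form. -/
def hom : kernel u ⟶ tgt Ω O1 where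
  val := PresheafOfModules.homMk
    { app := fun V => AddCommGrpCat.ofHom (AddMonoidHom.mk'
        (fun x : Γ(kernel u, unop V) => (exists_rel u d hF ((kernel.ι u).app (unop V) x)).choose) fun x x' =>
          rel_unique u d hF (exists_rel u d hF _).choose_spec (by
            rw [map_add]
            exact rel_add u d (exists_rel u d hF _).choose_spec (exists_rel u d hF _).choose_spec))
      naturality := fun V V' i => by
        ext x
        refine rel_unique u d hF (exists_rel u d hF _).choose_spec ?_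
        show Rel u d _ ((kernel.ι u).app _ (res (kernel u) i.unop.le x)) _
        rw [app_res]
        exact rel_res u d i.unop.le (exists_rel u d hF _).choose_spec }
    fun V r x => rel_unique u d hF (exists_rel u d hF _).choose_spec (by
      show Rel u d _ ((kernel.ι u).app _ ((show Γ(P, unop V) from r) • (show Γ(kernel u, unop V) from x))) _
      rw [Scheme.Modules.Hom.app_smul]
      exact rel_smul u d _ (u_kernel u _) (exists_rel u d hF _).choose_spec)

theorem hom_app (hb : Frame.IsFrame F b) (x : Γ(kernel u, W)) (c : Fin n → Γ(P, W))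
    (hc : (kernel.ι u).app W x = Frame.comb ((Scheme.Modules.pullback p).obj F) (pull b) W hW c) :
    (hom u d hF).app W x = val u d b hW c := by
  have h := (exists_rel u d hF ((kernel.ι u).app W x)).choose_spec U n b hb W le_rfl hW c
    ((res_self _).trans hc)
  rw [res_self] at h
  exact h

end Groth.Agent.Euler
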